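import Mathlib
set_option linter.all false

/-!
# Doubly transitive groups of degree `2 mod 4` (helper358)

* `normal_two_transitive` : `G` doubly transitive on `Ω` of degree `n ≡ 2 mod 4`, `n > 2`; every nontrivial
  normal subgroup is doubly transitive;
* `centralizer_eq_bot` : the centralizer of a doubly transitive subgroup is trivial (degree `> 2`);
* `exists_minimal` : the unique minimal normal subgroup.
-/

set_option autoImplicit false

namespace Cfsg.Agent.H358.TwoTransMod4

open MulAction Pointwise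

/-- Sylow's theorem for subgroups of a subgroup, by cardinalities. -/
theorem conj_of_card {G : Type*} [Group G] [Finite G] {p : ℕ} [hp : Fact p.Prime] (H T1 T2 : Subgroup G)
    (h1 : T1 ≤ H) (h2 : T2 ≤ H) (c1 : Nat.card T1 = p ^ (Nat.card H).factorization p)
    (c2 : Nat.card T2 = p ^ (Nat.card H).factorization p) :
    ∃ h ∈ H, T1.map (MulAut.conj h).toMonoidHom = T2 := by
  have e1 : Nat.card (T1.subgroupOf H) = p ^ (Nat.card H).factorization p := by
    rw [Nat.card_congr (Subgroup.subgroupOfEquivOfLe h1).toEquiv, c1]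
  have e2 : Nat.card (T2.subgroupOf H) = p ^ (Nat.card H).factorization p := by
    rw [Nat.card_congr (Subgroup.subgroupOfEquivOfLe h2).toEquiv, c2]
  let P1 : Sylow p H := Sylow.ofCard (T1.subgroupOf H) e1
  let P2 : Sylow p H := Sylow.ofCard (T2.subgroupOf H) e2
  obtain ⟨h, hh⟩ := MulAction.exists_smul_eq H P1 P2
  refine ⟨h, h.2, ?_⟩
  have hh' : (h • P1 : Sylow p H).toSubgroup = P2.toSubgroup := by rw [hh]
  rw [Sylow.coe_subgroup_smul] at hh'
  have e3 : (P1 : Subgroup H) = T1.subgroupOf H := rfl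
  have e4 : (P2 : Subgroup H) = T2.subgroupOf H := rfl
  rw [e3, e4] at hh'
  ext x
  constructor
  · rintro ⟨t, ht, rfl⟩
    have ht' : (⟨t, h1 ht⟩ : H) ∈ T1.subgroupOf H := ht
    have : (MulAut.conj h • (⟨t, h1 ht⟩ : H)) ∈ (MulAut.conj h • T1.subgroupOf H) :=
      Subgroup.smul_mem_pointwise_smul _ _ _ ht'
    rw [hh'] at this
    exact this
  · intro hx
    have hx' : (⟨x, h2 hx⟩ : H) ∈ T2.subgroupOf H := hx
    rw [← hh', Subgroup.mem_pointwise_smul_iff_inv_smul_mem] at hx'
    refine ⟨(h : G)⁻¹ * x * h, ?_, ?_⟩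
    · have : ((MulAut.conj h)⁻¹ • (⟨x, h2 hx⟩ : H) : H) = ⟨(h : G)⁻¹ * x * h, H.mul_mem (H.mul_mem (H.inv_mem h.2) (h2 hx)) h.2⟩ := by
        apply Subtype.ext
        simp [← map_inv]
      rw [this] at hx'
      exact hx'
    · simp [mul_assoc]

/-- A group of order `2 mod 4` has a normal subgroup of index two, consisting of the elements of odd order. -/
theorem exists_odd {X : Type*} [Group X] [Finite X] (h2 : 2 ∣ Nat.card X) (h4 : ¬ 4 ∣ Nat.card X) :
    ∃ O : Subgroup X, O.Normal ∧ O.index = 2 ∧ ∀ x : X, x ∈ O ↔ Odd (orderOf x) := by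
  have hm : (Nat.card X).minFac = 2 := by
    rw [Nat.minFac_eq_two_iff]; exact h2
  have : Fact (Nat.Prime 2) := ⟨Nat.prime_two⟩
  obtain ⟨P⟩ : Nonempty (Sylow 2 X) := inferInstance
  have hfac : (Nat.card X).factorization 2 = 1 := by
    have h0 : Nat.card X ≠ 0 := Nat.card_pos.ne'
    have h1 : 1 ≤ (Nat.card X).factorization 2 := by
      rw [← Nat.prime_two.pow_dvd_iff_le_factorization h0]; simpa using h2
    have h2' : ¬ 2 ≤ (Nat.card X).factorization 2 := by
      rw [← Nat.prime_two.pow_dvd_iff_le_factorization h0]; simpa using h4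
    omega
  have hcP : Nat.card P = 2 := by
    rw [P.card_eq_multiplicity, hfac, pow_one]
  have hcyc : IsCyclic P := isCyclic_of_prime_card hcP
  obtain ⟨O, hO, hidx⟩ : ∃ O : Subgroup X, O.Normal ∧ O.index = 2 :=
    ⟨_, inferInstance, (IsCyclic.isComplement' hm hcyc).symm.index_eq_card.trans hcP⟩
  refine ⟨O, hO, hidx, ?_⟩
  intro x
  constructor
  · intro hx
    have h1 : orderOf x ∣ Nat.card O := Subgroup.orderOf_dvd_natCard _ hx
    have h3 : Nat.card O * 2 = Nat.card X := by
      rw [← hidx, Subgroup.card_mul_index]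
    have h5 : ¬ 2 ∣ Nat.card O := by
      intro h; apply h4; rw [← h3]; exact Nat.mul_dvd_mul h (dvd_refl 2)
    rw [← Nat.not_even_iff_odd, even_iff_two_dvd]
    exact fun h => h5 (h.trans h1)
  · intro hx
    obtain ⟨k, hk⟩ := hx
    have h6 : x ^ (2 * k + 1) = 1 := by rw [← hk]; exact pow_orderOf_eq_one x
    have h7 : ∀ y : X, y ^ 2 ∈ O := fun y => Subgroup.sq_mem_of_index_two hidx y
    have h8 : x ^ (2 * k) ∈ O := by
      rw [mul_comm, pow_mul]; exact h7 _
    have h9 : x = (x ^ (2 * k))⁻¹ := by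
      rw [pow_succ] at h6
      exact (inv_eq_of_mul_eq_one_right h6).symm
    rw [h9]
    exact Subgroup.inv_mem _ h8

/-- The length of a transitive orbit. -/
theorem card_eq_index {F : Type*} [Finite F] (Z : Subgroup (Equiv.Perm F)) (b : F)
    (hZ : ∀ c : F, ∃ x ∈ Z, x b = c) : (stabilizer Z b).index = Nat.card F := by
  have htr : MulAction.orbit Z b = Set.univ := by
    apply Set.eq_univ_of_forall
    intro c
    obtain ⟨x, hx, hxc⟩ := hZ c
    exact ⟨⟨x, hx⟩, hxc⟩
  rw [MulAction.index_stabilizer, htr, Set.ncard_univ]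

/-- The numerical core: a doubly transitive permutation group of even degree with a transitive normal subgroup
whose order is not divisible by four has degree two. -/
theorem card_eq_two {F : Type*} [Finite F] (X Y : Subgroup (Equiv.Perm F))
    (hn : ∀ y ∈ Y, ∀ x ∈ X, y * x * y⁻¹ ∈ X) (h4 : ¬ 4 ∣ Nat.card X) (h2 : 2 ∣ Nat.card F) (b : F)
    (tX : ∀ c : F, ∃ x ∈ X, x b = c)
    (tY : ∀ c d : F, c ≠ b → d ≠ b → ∃ y ∈ Y, y b = b ∧ y c = d) : Nat.card F = 2 := by
  have h2X : 2 ∣ Nat.card X := by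
    rw [← Subgroup.card_mul_index (stabilizer X b), card_eq_index X b tX]
    exact h2.mul_left _
  obtain ⟨O, hO, hidx, hodd⟩ := exists_odd h2X h4
  by_cases htriv : ∀ x ∈ O, (x : Equiv.Perm F) b = b
  · -- then `O` is in the stabilizer and the orbit has length at most two
    have hle : O ≤ stabilizer X b := fun x hx => htriv x hx
    have h3 : (stabilizer X b).index ∣ O.index := Subgroup.index_dvd_of_le hle
    rw [card_eq_index X b tX, hidx] at h3
    exact Nat.dvd_antisymm h3 h2
  · exfalso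
    push Not at htriv
    obtain ⟨x, hx, hxb⟩ := htriv
    have h5 : (stabilizer ↥(O.map X.subtype) b).index = Nat.card F := by
      apply card_eq_index
      intro d
      by_cases hd : d = b
      · exact ⟨1, one_mem _, by simp [hd]⟩
      · obtain ⟨y, hy, hyb, hyc⟩ := tY _ _ hxb hd
        refine ⟨y * x * y⁻¹, ?_, ?_⟩
        · refine ⟨⟨y * x * y⁻¹, hn y hy _ x.2⟩, ?_, rfl⟩
          rw [SetLike.mem_coe, hodd]
          have : orderOf (⟨y * x * y⁻¹, hn y hy _ x.2⟩ : X) = orderOf x := by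
            rw [← Subgroup.orderOf_coe, ← Subgroup.orderOf_coe]
            exact MulEquiv.orderOf_eq (MulAut.conj y) (x : Equiv.Perm F)
          rw [this]
          exact (hodd x).1 hx
        · have : y⁻¹ b = b := by rw [Equiv.Perm.inv_eq_iff_eq]; exact hyb.symm
          simp [Equiv.Perm.mul_apply, this, hyc]
    have h6 : Nat.card (O.map X.subtype) = Nat.card O :=
      Subgroup.card_map_of_injective X.subtype_injective
    have h7 : Nat.card F ∣ Nat.card O := by
      rw [← h6, ← Subgroup.card_mul_index (stabilizer ↥(O.map X.subtype) b), h5]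
      exact dvd_mul_left _ _
    apply h4
    rw [← Subgroup.card_mul_index O, hidx]
    exact Nat.mul_dvd_mul (h2.trans h7) (dvd_refl 2)

section

variable {G : Type*} [Group G] {Ω : Type*} [MulAction G Ω]

/-- The points fixed by a subgroup. -/
def fix (T : Subgroup G) (Ω : Type*) [MulAction G Ω] : Set Ω := {x | ∀ t ∈ T, t • x = x}

theorem smul_mem_fix {T : Subgroup G} {y : G} (hy : y ∈ Subgroup.normalizer (T : Set G)) {x : Ω}
    (hx : x ∈ fix T Ω) : y • x ∈ fix T Ω := by
  intro t ht
  have h1 : y⁻¹ * t * y ∈ T := by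
    apply (Subgroup.mem_normalizer_iff.1 hy (y⁻¹ * t * y)).2
    simpa [mul_assoc] using ht
  have h2 := hx _ h1
  rw [mul_smul, mul_smul, inv_smul_eq_iff] at h2
  exact h2

/-- Witt's lemma. -/
theorem witt [Finite G] {N M T : Subgroup G} [N.Normal] (hNM : N ≤ M) (hT : T ≤ N) {p : ℕ} [Fact p.Prime]
    (hcard : ∀ x ∈ fix T Ω, Nat.card T = p ^ (Nat.card ↥(N ⊓ stabilizer G x)).factorization p)
    {b c b' c' : Ω} (hb : b ∈ fix T Ω) (hc : c ∈ fix T Ω) (hb' : b' ∈ fix T Ω) (hc' : c' ∈ fix T Ω)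
    {g : G} (hg : g ∈ M) (gb : g • b = b') (gc : g • c = c') :
    ∃ y ∈ M, y ∈ Subgroup.normalizer (T : Set G) ∧ y • b = b' ∧ y • c = c' := by
  set H : Subgroup G := (N ⊓ stabilizer G b') ⊓ stabilizer G c' with hH
  have hTH : T ≤ H := fun t ht => ⟨⟨hT ht, hb' t ht⟩, hc' t ht⟩
  have hcT : Nat.card T = p ^ (Nat.card H).factorization p := by
    have hp : p.Prime := Fact.out
    have h1 := hcard b' hb'
    have h2 : Nat.card T ∣ Nat.card H := Subgroup.card_dvd_of_le hTH
    have h3 : Nat.card H ∣ Nat.card ↥(N ⊓ stabilizer G b') := Subgroup.card_dvd_of_le inf_le_left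
    have h4 : (Nat.card ↥(N ⊓ stabilizer G b')).factorization p ≤ (Nat.card H).factorization p := by
      rw [← hp.pow_dvd_iff_le_factorization Nat.card_pos.ne', ← h1]; exact h2
    have h5 : (Nat.card H).factorization p ≤ (Nat.card ↥(N ⊓ stabilizer G b')).factorization p :=
      (Nat.factorization_le_iff_dvd Nat.card_pos.ne' Nat.card_pos.ne').2 h3 p
    rw [h1, le_antisymm h4 h5]
  have hT1H : T.map (MulAut.conj g).toMonoidHom ≤ H := by
    rintro _ ⟨t, ht, rfl⟩
    refine ⟨⟨?_, ?_⟩, ?_⟩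
    · simpa using (inferInstance : N.Normal).conj_mem t (hT ht) g
    · change (g * t * g⁻¹) • b' = b'
      rw [← gb, mul_smul, mul_smul, inv_smul_smul, hb t ht]
    · change (g * t * g⁻¹) • c' = c'
      rw [← gc, mul_smul, mul_smul, inv_smul_smul, hc t ht]
  have hcT1 : Nat.card ↥(T.map (MulAut.conj g).toMonoidHom) = p ^ (Nat.card H).factorization p := by
    rw [Subgroup.card_map_of_injective (MulAut.conj g).injective, hcT]
  obtain ⟨h, hhH, hh⟩ := conj_of_card H _ _ hT1H hTH hcT1 hcT
  refine ⟨h * g, M.mul_mem (hNM hhH.1.1) hg, ?_, ?_, ?_⟩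
  · rw [Subgroup.mem_normalizer_iff]
    intro x
    constructor
    · intro hx
      have : h * (g * x * g⁻¹) * h⁻¹ ∈ T := by
        rw [← hh]
        exact ⟨g * x * g⁻¹, ⟨x, hx, rfl⟩, rfl⟩
      simpa [mul_assoc] using this
    · intro hx
      rw [← hh] at hx
      obtain ⟨_, ⟨t, ht, rfl⟩, hx⟩ := hx
      have : t = x := by
        simp only [MulEquiv.coe_toMonoidHom, MulAut.conj_apply, mul_inv_rev] at hx
        have h6 : h * (g * t * g⁻¹) * h⁻¹ = (h * g) * t * (h * g)⁻¹ := by group
        rw [h6] at hx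
        simpa using hx
      rw [← this]; exact ht
  · rw [mul_smul, gb]; exact hhH.1.2
  · rw [mul_smul, gc]; exact hhH.2

end

section

variable {G : Type*} [Group G] {Ω : Type*} [MulAction G Ω]

/-- The normalizer of `T` acts on the fixed points of `T`. -/
@[reducible] def actFix (T : Subgroup G) (Ω : Type*) [MulAction G Ω] :
    MulAction ↥(Subgroup.normalizer (T : Set G)) ↥(fix T Ω) where
  smul y x := ⟨(y : G) • (x : Ω), smul_mem_fix y.2 x.2⟩
  one_smul x := Subtype.ext (one_smul G (x : Ω))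
  mul_smul y z x := Subtype.ext (mul_smul (y : G) (z : G) (x : Ω))

/-- The permutation representation on the fixed points. -/
def phi (T : Subgroup G) (Ω : Type*) [MulAction G Ω] :
    ↥(Subgroup.normalizer (T : Set G)) →* Equiv.Perm ↥(fix T Ω) :=
  letI := actFix T Ω
  MulAction.toPermHom _ _

theorem phi_apply (T : Subgroup G) (y : ↥(Subgroup.normalizer (T : Set G))) (x : ↥(fix T Ω)) :
    ((phi T Ω y x : ↥(fix T Ω)) : Ω) = (y : G) • (x : Ω) := rfl

theorem card_stab_eq {N : Subgroup G} (a : Ω) : Nat.card (stabilizer N a) = Nat.card ↥(N ⊓ stabilizer G a) := by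
  refine Nat.card_congr ⟨fun x => ⟨x.1.1, x.1.2, x.2⟩, fun x => ⟨⟨x.1, x.2.1⟩, x.2.2⟩, fun _ => rfl, fun _ => rfl⟩

theorem card_inf_stab_eq {N : Subgroup G} [N.Normal] [IsPretransitive N Ω] (a b : Ω) :
    Nat.card ↥(N ⊓ stabilizer G a) = Nat.card ↥(N ⊓ stabilizer G b) := by
  rw [← card_stab_eq, ← card_stab_eq]
  obtain ⟨n, hn⟩ := MulAction.exists_smul_eq N a b
  exact Nat.card_congr (MulAction.stabilizerEquivStabilizer (g := n) (a := a) (b := b) hn.symm).toEquiv

theorem card_eq_mul {N : Subgroup G} [N.Normal] [IsPretransitive N Ω] (a : Ω) :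
    Nat.card N = Nat.card Ω * Nat.card ↥(N ⊓ stabilizer G a) := by
  rw [← Subgroup.index_mul_card (stabilizer N a), MulAction.index_stabilizer_of_transitive, card_stab_eq]

/-- **A Sylow 2-subgroup of a point stabilizer in a transitive normal subgroup fixes exactly two points.** -/
theorem ncard_fix [Finite G] [Finite Ω] {N T : Subgroup G} [N.Normal] (h2 : IsMultiplyPretransitive G Ω 2) (hn : Nat.card Ω % 4 = 2)
    [htr : IsPretransitive N Ω] {a : Ω} (hT : T ≤ N ⊓ stabilizer G a)
    (hc : Nat.card T = 2 ^ (Nat.card ↥(N ⊓ stabilizer G a)).factorization 2) : (fix T Ω).ncard = 2 := by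
  have : Fact (Nat.Prime 2) := ⟨Nat.prime_two⟩
  have ha : a ∈ fix T Ω := fun t ht => (hT ht).2
  have hTN : T ≤ N := hT.trans inf_le_left
  have hcard : ∀ x ∈ fix T Ω, Nat.card T = 2 ^ (Nat.card ↥(N ⊓ stabilizer G x)).factorization 2 := by
    intro x _
    rw [hc, card_inf_stab_eq a x]
  rw [is_two_pretransitive_iff] at h2
  have hTY : T ≤ Subgroup.normalizer (T : Set G) := Subgroup.le_normalizer
  rw [← Nat.card_coe_set_eq]
  refine card_eq_two ((N.subgroupOf (Subgroup.normalizer (T : Set G))).map (phi T Ω)) (phi T Ω).range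
    ?_ ?_ ?_ ⟨a, ha⟩ ?_ ?_
  · rintro _ ⟨y, rfl⟩ _ ⟨x, hx, rfl⟩
    refine ⟨y * x * y⁻¹, ?_, by simp⟩
    have : ((N.subgroupOf (Subgroup.normalizer (T : Set G)))).Normal := inferInstance
    exact this.conj_mem x hx y
  · intro h4
    set X := N.subgroupOf (Subgroup.normalizer (T : Set G)) with hX
    set ψ : X →* Equiv.Perm ↥(fix T Ω) := (phi T Ω).comp X.subtype with hψ
    have h5 : X.map (phi T Ω) = ψ.range := by
      rw [hψ, MonoidHom.range_comp, Subgroup.range_subtype]
    rw [h5] at h4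
    have h6 : Nat.card ψ.range * Nat.card ψ.ker = Nat.card X := by
      rw [← Subgroup.card_mul_index ψ.ker, Subgroup.index_ker, mul_comm]
    have h7 : Nat.card T ∣ Nat.card ψ.ker := by
      let f : T →* ψ.ker :=
        { toFun := fun t => ⟨⟨⟨t, hTY t.2⟩, hTN t.2⟩, by
            rw [MonoidHom.mem_ker]
            ext x
            exact x.2 t t.2⟩
          map_one' := rfl
          map_mul' := fun _ _ => rfl }
      apply Subgroup.card_dvd_of_injective f
      intro s t hst
      have := congrArg (fun x : ψ.ker => (((x : X) : ↥(Subgroup.normalizer (T : Set G))) : G)) hst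
      exact Subtype.ext this
    have h8 : Nat.card X ∣ Nat.card N := by
      let f : X →* N :=
        { toFun := fun x => ⟨x.1.1, x.2⟩
          map_one' := rfl
          map_mul' := fun _ _ => rfl }
      apply Subgroup.card_dvd_of_injective f
      intro s t hst
      have := congrArg (fun x : N => (x : G)) hst
      exact Subtype.ext (Subtype.ext this)
    have h9 : 4 * Nat.card T ∣ Nat.card N := (Nat.mul_dvd_mul h4 h7).trans (h6 ▸ h8)
    rw [card_eq_mul (N := N) a, hc] at h9
    set m := Nat.card ↥(N ⊓ stabilizer G a) with hm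
    have hm0 : m ≠ 0 := Nat.card_pos.ne'
    have hΩ0 : Nat.card Ω ≠ 0 := by omega
    have h10 : 2 ^ (m.factorization 2 + 2) ∣ Nat.card Ω * m := by
      rw [pow_add, mul_comm]; exact h9
    rw [Nat.prime_two.pow_dvd_iff_le_factorization (mul_ne_zero hΩ0 hm0), Nat.factorization_mul hΩ0 hm0,
      Finsupp.add_apply] at h10
    have h11 : 2 ^ 2 ∣ Nat.card Ω := by
      rw [Nat.prime_two.pow_dvd_iff_le_factorization hΩ0]; omega
    omega
  · have hTp : IsPGroup 2 T := IsPGroup.of_card hc
    have h3 := hTp.card_modEq_card_fixedPoints Ω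
    have h4 : Nat.card (fixedPoints T Ω) = Nat.card ↥(fix T Ω) := by
      refine Nat.card_congr (Equiv.setCongr ?_)
      ext x
      exact ⟨fun h t ht => h ⟨t, ht⟩, fun h t => h t.1 t.2⟩
    rw [h4] at h3
    have h5 : Nat.card Ω % 2 = Nat.card ↥(fix T Ω) % 2 := h3
    omega
  · rintro ⟨c, hc'⟩
    obtain ⟨n, hn'⟩ := MulAction.exists_smul_eq N a c
    obtain ⟨y, hyN, hyT, hy1, _⟩ := witt (M := N) le_rfl hTN hcard ha ha hc' hc' n.2 hn' hn'
    exact ⟨phi T Ω ⟨y, hyT⟩, ⟨⟨y, hyT⟩, hyN, rfl⟩, Subtype.ext hy1⟩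
  · rintro ⟨c, hc'⟩ ⟨d, hd'⟩ hca hda
    have hca' : a ≠ c := fun h => hca (Subtype.ext h.symm)
    have hda' : a ≠ d := fun h => hda (Subtype.ext h.symm)
    obtain ⟨g, hg1, hg2⟩ := h2 hca' hda'
    obtain ⟨y, _, hyT, hy1, hy2⟩ := witt (M := ⊤) le_top hTN hcard ha hc' ha hd' (Subgroup.mem_top g) hg1 hg2
    exact ⟨phi T Ω ⟨y, hyT⟩, ⟨⟨y, hyT⟩, rfl⟩, Subtype.ext hy1, Subtype.ext hy2⟩

end

section

variable {G : Type*} [Group G] [Finite G] {Ω : Type*} [MulAction G Ω] [Finite Ω]

/-- A nontrivial normal subgroup of a doubly transitive group is transitive. -/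
theorem isPretransitive_of_normal [FaithfulSMul G Ω] (h2 : IsMultiplyPretransitive G Ω 2) (N : Subgroup G)
    [N.Normal] (hN : N ≠ ⊥) : IsPretransitive N Ω := by
  have : IsPreprimitive G Ω := isPreprimitive_of_is_two_pretransitive h2
  apply IsQuasiPreprimitive.isPretransitive_of_normal (G := G)
  intro h
  apply hN
  rw [eq_bot_iff]
  intro n hn
  have : n = 1 := by
    apply FaithfulSMul.eq_of_smul_eq_smul (α := Ω)
    intro x
    have hx : x ∈ fixedPoints N Ω := by rw [h]; trivial
    rw [one_smul]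
    exact hx ⟨n, hn⟩
  exact this

/-- **Every nontrivial normal subgroup of a doubly transitive group of degree `2 mod 4` (`> 2`) is doubly transitive.** -/
theorem normal_two_transitive [FaithfulSMul G Ω] (h2 : IsMultiplyPretransitive G Ω 2) (hn : Nat.card Ω % 4 = 2)
    (N : Subgroup G) [N.Normal] (hN : N ≠ ⊥) : IsMultiplyPretransitive N Ω 2 := by
  have : Fact (Nat.Prime 2) := ⟨Nat.prime_two⟩
  have htr := isPretransitive_of_normal h2 N hN
  have hne : Nonempty Ω := by
    rw [← Nat.card_pos_iff.trans (and_iff_left inferInstance)]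
    omega
  -- transitivity of `N_a` on the other points
  have key : ∀ a b c : Ω, b ≠ a → c ≠ a → ∃ n ∈ N, n • a = a ∧ n • b = c := by
    intro a
    obtain ⟨P⟩ : Nonempty (Sylow 2 ↥(N ⊓ stabilizer G a)) := inferInstance
    set T : Subgroup G := (P : Subgroup ↥(N ⊓ stabilizer G a)).map (N ⊓ stabilizer G a).subtype with hT
    have hTle : T ≤ N ⊓ stabilizer G a := by
      rintro _ ⟨x, _, rfl⟩
      exact x.2
    have hTc : Nat.card T = 2 ^ (Nat.card ↥(N ⊓ stabilizer G a)).factorization 2 := by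
      rw [hT, Subgroup.card_map_of_injective (Subgroup.subtype_injective _), P.card_eq_multiplicity]
    have hF := ncard_fix h2 hn hTle hTc
    have ha : a ∈ fix T Ω := fun t ht => (hTle ht).2
    rw [Set.ncard_eq_two] at hF
    obtain ⟨u, v, huv, huvF⟩ := hF
    obtain ⟨a', haa', hFa⟩ : ∃ a', a' ≠ a ∧ ∀ x, x ∈ fix T Ω → x ≠ a → x = a' := by
      rw [huvF] at ha ⊢
      rcases ha with rfl | ha
      · exact ⟨v, huv.symm, by rintro x (rfl | hx) h; exacts [absurd rfl h, hx]⟩
      · rw [Set.mem_singleton_iff] at ha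
        subst ha
        exact ⟨u, huv, by rintro x (rfl | hx) h; exacts [rfl, absurd hx h]⟩
    have ha'F : a' ∈ fix T Ω := by
      by_contra hcon
      have h3 : fix T Ω ⊆ {a} := by
        intro x hx
        by_contra hxa
        have := hFa x hx hxa
        subst this
        exact hcon hx
      have h4 : (fix T Ω).ncard ≤ 1 := by
        rw [← Set.ncard_singleton a]
        exact Set.ncard_le_ncard h3
      rw [huvF, Set.ncard_pair huv] at h4
      omega
    have hmove : ∀ b, b ≠ a → ∃ n ∈ N, n • a = a ∧ n • b = a' := by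
      intro b hb
      rw [is_two_pretransitive_iff] at h2
      obtain ⟨g, hg1, hg2⟩ := h2 (a := a) (b := a') (c := a) (d := b) haa'.symm hb.symm
      have h5 : T.map (MulAut.conj g).toMonoidHom ≤ N ⊓ stabilizer G a := by
        rintro _ ⟨t, ht, rfl⟩
        refine ⟨?_, ?_⟩
        · simpa using (inferInstance : N.Normal).conj_mem t (hTle ht).1 g
        · change (g * t * g⁻¹) • a = a
          nth_rewrite 1 [← hg1]
          rw [mul_smul, mul_smul, inv_smul_smul, ha t ht, hg1]
      have h6 : Nat.card ↥(T.map (MulAut.conj g).toMonoidHom) = 2 ^ (Nat.card ↥(N ⊓ stabilizer G a)).factorization 2 := by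
        rw [Subgroup.card_map_of_injective (MulAut.conj g).injective, hTc]
      obtain ⟨h, hhH, hh⟩ := conj_of_card (N ⊓ stabilizer G a) _ _ h5 hTle h6 hTc
      refine ⟨h, hhH.1, hhH.2, ?_⟩
      apply hFa
      · intro t ht
        rw [← hh] at ht
        obtain ⟨_, ⟨t', ht', rfl⟩, rfl⟩ := ht
        change (h * (g * t' * g⁻¹) * h⁻¹) • (h • b) = h • b
        rw [← hg2]
        simp only [mul_smul, inv_smul_smul]
        rw [ha'F t' ht']
      · intro h7
        apply hb
        have h8 : h • a = a := hhH.2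
        rw [← h8] at h7
        exact smul_left_cancel h h7
    intro b c hb hc
    obtain ⟨n, hnN, hna, hnb⟩ := hmove b hb
    obtain ⟨m, hmN, hma, hmc⟩ := hmove c hc
    refine ⟨m⁻¹ * n, N.mul_mem (N.inv_mem hmN) hnN, ?_, ?_⟩
    · rw [mul_smul, hna, inv_smul_eq_iff, hma]
    · rw [mul_smul, hnb, inv_smul_eq_iff, hmc]
  rw [is_two_pretransitive_iff]
  intro a b c d hab hcd
  obtain ⟨n, hn'⟩ := MulAction.exists_smul_eq N a c
  have h9 : n • b ≠ c := by
    intro h
    rw [← hn'] at h
    exact hab (smul_left_cancel n h).symm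
  obtain ⟨m, hmN, hm1, hm2⟩ := key c (n • b) d h9 hcd.symm
  refine ⟨⟨m, hmN⟩ * n, ?_, ?_⟩
  · rw [mul_smul, hn']; exact hm1
  · rw [mul_smul]; exact hm2

omit [Finite G] in
/-- The centralizer of a doubly transitive subgroup is trivial. -/
theorem centralizer_eq_bot [FaithfulSMul G Ω] (M : Subgroup G) (hM : IsMultiplyPretransitive M Ω 2)
    (h3 : 2 < Nat.card Ω) : Subgroup.centralizer (M : Set G) = ⊥ := by
  rw [eq_bot_iff]
  intro c hc
  have : c = 1 := by
    apply FaithfulSMul.eq_of_smul_eq_smul (α := Ω)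
    intro x
    rw [one_smul]
    by_contra hx
    -- a third point
    obtain ⟨y, hyx, hyc⟩ : ∃ y, y ≠ x ∧ y ≠ c • x := by
      by_contra hcon
      push Not at hcon
      have h4 : (Set.univ : Set Ω) ⊆ {x, c • x} := by
        intro y _
        by_cases hy : y = x
        · exact Or.inl hy
        · exact Or.inr (hcon y hy)
      have h5 := Set.ncard_le_ncard h4
      rw [Set.ncard_univ] at h5
      have h6 := Set.ncard_insert_le x {c • x}
      rw [Set.ncard_singleton] at h6
      omega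
    rw [is_two_pretransitive_iff] at hM
    obtain ⟨m, hm1, hm2⟩ := hM (a := x) (b := c • x) (c := x) (d := y) (Ne.symm hx) hyx.symm
    apply hyc
    have h7 := (Subgroup.mem_centralizer_iff.1 hc) (m : G) m.2
    have h8 : (m : G) • c • x = c • (m : G) • x := by rw [← mul_smul, ← mul_smul, h7]
    have h9 : (m : G) • x = x := hm1
    have h10 : (m : G) • c • x = y := hm2
    rw [h9, h10] at h8
    exact h8
  exact this

/-- Existence of a minimal nontrivial normal subgroup. -/
theorem exists_min_normal (G : Type*) [Group G] [Finite G] [Nontrivial G] :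
    ∃ M : Subgroup G, M.Normal ∧ M ≠ ⊥ ∧ ∀ N : Subgroup G, N.Normal → N ≠ ⊥ → N ≤ M → N = M := by
  obtain ⟨M, hM, hmin⟩ := Set.Finite.exists_minimal (s := {M : Subgroup G | M.Normal ∧ M ≠ ⊥})
    (Set.toFinite _) ⟨⊤, inferInstance, top_ne_bot⟩
  refine ⟨M, hM.1, hM.2, fun N hN hN1 hNM => ?_⟩
  exact le_antisymm hNM (hmin ⟨hN, hN1⟩ hNM)

/-- The unique minimal normal subgroup. -/
theorem exists_unique_min [FaithfulSMul G Ω] (h2 : IsMultiplyPretransitive G Ω 2) (hn : Nat.card Ω % 4 = 2)
    (h3 : 2 < Nat.card Ω) : ∃ M : Subgroup G, M.Normal ∧ M ≠ ⊥ ∧ (∀ N : Subgroup G, N.Normal → N ≠ ⊥ → M ≤ N) := by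
  have : Nontrivial G := by
    by_contra hcon
    rw [not_nontrivial_iff_subsingleton] at hcon
    rw [is_two_pretransitive_iff] at h2
    have : Nontrivial Ω := Finite.one_lt_card_iff_nontrivial.1 (by omega)
    obtain ⟨x, y, hxy⟩ := exists_pair_ne Ω
    obtain ⟨g, hg1, hg2⟩ := h2 hxy hxy.symm
    rw [Subsingleton.elim g 1, one_smul] at hg1
    exact hxy hg1
  obtain ⟨M, hM, hM1, hmin⟩ := exists_min_normal G
  refine ⟨M, hM, hM1, ?_⟩
  intro N hN hN1
  have hMt := normal_two_transitive h2 hn M hM1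
  have hC := centralizer_eq_bot M hMt h3
  by_cases hint : N ⊓ M = ⊥
  · exfalso
    apply hN1
    rw [eq_bot_iff, ← hC]
    intro x hx
    rw [Subgroup.mem_centralizer_iff]
    intro m hm
    exact (Subgroup.commute_of_normal_of_disjoint N M hN hM (disjoint_iff.2 hint) x m hx hm).symm
  · have := hmin (N ⊓ M) inferInstance hint inf_le_right
    rw [← this]
    exact inf_le_left

end

end Cfsg.Agent.H358.TwoTransMod4
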